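import Cfsg.Agent.Lib.Sporadic.OutCert.Co3.Defs

/-!
The words of the lattice library move the listed vectors as the tables say.
-/

set_option autoImplicit false
set_option maxRecDepth 100000
set_option maxHeartbeats 0
set_option Elab.async false

namespace CfsgLib.Sporadic.OutCert.Co3

open CfsgLib.SmallGroups

theorem run2_0 : runK LeechMcLData.gens2 g2Tab 0 = true := by decide +kernel

theorem run2_1 : runK LeechMcLData.gens2 g2Tab 1 = true := by decide +kernel

theorem run2_2 : runK LeechMcLData.gens2 g2Tab 2 = true := by decide +kernel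

theorem run2_3 : runK LeechMcLData.gens2 g2Tab 3 = true := by decide +kernel

theorem run2_4 : runK LeechMcLData.gens2 g2Tab 4 = true := by decide +kernel

theorem run2_5 : runK LeechMcLData.gens2 g2Tab 5 = true := by decide +kernel

theorem run2_6 : runK LeechMcLData.gens2 g2Tab 6 = true := by decide +kernel

theorem run2_7 : runK LeechMcLData.gens2 g2Tab 7 = true := by decide +kernel

theorem run2_8 : runK LeechMcLData.gens2 g2Tab 8 = true := by decide +kernel

theorem run2_9 : runK LeechMcLData.gens2 g2Tab 9 = true := by decide +kernel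

theorem run2_10 : runK LeechMcLData.gens2 g2Tab 10 = true := by decide +kernel

theorem run2_11 : runK LeechMcLData.gens2 g2Tab 11 = true := by decide +kernel

theorem g2_run : ∀ m < 12, runK LeechMcLData.gens2 g2Tab m = true := fun m hm =>
  match m, hm with
  | 0, _ => run2_0
  | 1, _ => run2_1
  | 2, _ => run2_2
  | 3, _ => run2_3
  | 4, _ => run2_4
  | 5, _ => run2_5
  | 6, _ => run2_6
  | 7, _ => run2_7
  | 8, _ => run2_8
  | 9, _ => run2_9
  | 10, _ => run2_10
  | 11, _ => run2_11

end CfsgLib.Sporadic.OutCert.Co3
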