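import Cfsg.Agent.Lib.Sporadic.OutCert.GraphCert
import Cfsg.Agent.Lib.Sporadic.OutCert.Co3.Data
import Cfsg.Agent.Lib.Sporadic.OutCert.Co3.DataSlp
import Cfsg.Agent.Lib.Sporadic.OutCert.Co3.DataSig
import Cfsg.Agent.Lib.SmallGroups.LeechLists
import Cfsg.Agent.Lib.SmallGroups.LeechCo3Data
import Cfsg.Agent.Lib.SmallGroups.LeechMcLData
import Cfsg.Agent.Lib.Sporadic.OutCert.McL.Data

/-!
The checks on the data for the automorphisms of the third Conway group.
-/

set_option autoImplicit false
set_option maxRecDepth 100000
set_option maxHeartbeats 0

namespace CfsgLib.Sporadic.OutCert.Co3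

open CfsgLib.SmallGroups CfsgLib.SmallGroups.LeechOrbit CfsgLib.SmallGroups.LeechLists

/-- A word of the lattice library moves the listed vectors as a table says. -/
noncomputable def runK (W : List (List Step)) (T : List (ℕ × ℕ)) (m : ℕ) : Bool :=
  allF (fun i => LeechOrbit.run (W.getD m []) (lk 100 vN i) ==
    some (lk 100 vN (lk 10 (T.getD m (0, 0)).1 i))) 552

/-- The class of the inner product of two listed vectors. -/
def cod (i j : ℕ) : ℕ :=
  if dotK (lk 100 vN i) (lk 100 vN j) == 8 then 1 else if dotK (lk 100 vN i) (lk 100 vN j) == 16 then 0 else 2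

/-- The pattern of a point against its images under the powers of `a`. -/
noncomputable def autA (t : ℕ) : ℕ :=
  pk 2 ((List.range 22).map fun k => cod t (lk 10 (aPows.getD (k + 1) 0) t))

/-- The pattern of a point against its images under the powers of `n`. -/
noncomputable def autN (t : ℕ) : ℕ :=
  pk 2 ((List.range 10).map fun k => cod t (lk 10 (nPows.getD (k + 1) 0) t))

/-- The separating points for `a`. -/
noncomputable def qA : List ℕ := (List.range 23).map fun k => lk 10 (aPows.getD k 0) xA

/-- The separating points for `n`. -/
noncomputable def qN : List ℕ :=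
  ((List.range 11).map fun k => lk 10 (nPows.getD k 0) xN) ++
    (((List.range 11).map fun k => lk 10 (nPows.getD k 0) yN) ++ [f0, f1])

/-- The pattern of two points against each other under the powers of `n`. -/
noncomputable def crossN (t u : ℕ) : ℕ :=
  pk 2 ((List.range 11).map fun k => cod t (lk 10 (nPows.getD k 0) u))

/-- The four permutations commuting with `n`, apart from its powers. -/
noncomputable def sOf (e : ℕ) : ℕ :=
  [oneK 10 552, kb, ks, compK 10 552 ks kb].getD e 0

/-- The images of the three base points under one of the candidates. -/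
noncomputable def matchK (f t u i e : ℕ) : Bool :=
  Nat.beq (lk 10 (nPows.getD i 0) (lk 10 (sOf e) f0)) f &&
    (Nat.beq (lk 10 (nPows.getD i 0) (lk 10 (sOf e) xN)) t &&
      Nat.beq (lk 10 (nPows.getD i 0) (lk 10 (sOf e) yN)) u)

/-- Three images possible for a permutation commuting with `n` come from a candidate. -/
noncomputable def tripleK (f t u : ℕ) : Bool :=
  !(cod t f == cod xN f0) || (!(cod u f == cod yN f0) || (!(crossN t u == crossN xN yN) ||
    ((List.range 11).any fun i => (List.range 4).any fun e => matchK f t u i e)))

/-- A point with the pattern of the chosen point is one of its known images. -/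
noncomputable def centAK (t : ℕ) : Bool :=
  !(autA t == autA xA) || (List.range 23).any fun i =>
    Nat.beq (lk 10 (aPows.getD i 0) xA) t || Nat.beq (lk 10 ks (lk 10 (aPows.getD i 0) xA)) t

end CfsgLib.Sporadic.OutCert.Co3
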