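import Cfsg.Agent.Lib.Sporadic.OutCert.Slp
import Cfsg.Agent.Lib.Sporadic.OutCert.Co3.Defs

/-!
The straight line computations are right.
-/

set_option autoImplicit false
set_option maxRecDepth 100000
set_option maxHeartbeats 0
set_option Elab.async false

namespace CfsgLib.Sporadic.OutCert.Co3

/-- The number of a word in the generators of the two-point stabiliser. -/
noncomputable def g2Word (l : List ℕ) : ℕ :=
  l.foldr (fun i acc => compK 10 552 (g2Tab.getD i (0, 0)).1 acc) (oneK 10 552)

theorem slp_G : slpCheck 10 552 (gTab.map Prod.fst) slpG = true := by decide +kernel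

theorem slp_G_at : slpVal (gTab.map Prod.fst) slpG (slpGAt.getD 0 0) = ka ∧
    slpVal (gTab.map Prod.fst) slpG (slpGAt.getD 1 0) = kn ∧
    slpVal (gTab.map Prod.fst) slpG (slpGAt.getD 2 0) = kb ∧
    (slpGAt.all fun i => Nat.blt i (5 + slpG.length)) = true ∧ slpGAt.length = 3 := by decide +kernel

theorem slp_H : slpCheck 10 552 [ka, kn, kb] slpH = true := by decide +kernel

theorem slp_H_at : slpVal [ka, kn, kb] slpH (slpHAt.getD 0 0) = g2Word McL.aW ∧
    slpVal [ka, kn, kb] slpH (slpHAt.getD 1 0) = g2Word McL.bW ∧
    (slpHAt.all fun i => Nat.blt i (3 + slpH.length)) = true ∧ slpHAt.length = 2 := by decide +kernel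

theorem orb_H : ((List.range 552).all fun i => (orbW.getD i []).all fun k => Nat.blt k 3) = true ∧
    ((List.range 552).all fun i => appK 10 ((orbW.getD i []).map fun k => [ka, kn, kb].getD k 0) iV == i) = true := by
  decide +kernel

end CfsgLib.Sporadic.OutCert.Co3
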