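import Cfsg.Agent.Lib.Sporadic.OutCert.Co3.Embed
import Cfsg.Agent.Lib.Sporadic.OutCert.Co3.CheckRunTwo
import Cfsg.Agent.Lib.Sporadic.OutCert.Co3.CheckSlp
import Cfsg.Agent.Lib.Sporadic.OutCert.McL.Group

/-!
The three permutations generate the image of the third Conway group.
-/

set_option autoImplicit false
set_option maxRecDepth 10000

namespace CfsgLib.Sporadic.OutCert.Co3

open Cfsg CfsgLib.SmallGroups CfsgLib.SmallGroups.LeechOrbit CfsgLib.SmallGroups.LeechLists
  CfsgLib.SmallGroups.LeechVectorStab CfsgLib.SmallGroups.LeechPairs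

attribute [local irreducible] lk pkF allF compK ka kai kn kni kb ks gTab g2Tab vKeys vN slpG slpH orbW
  McL.aW McL.bW McL.ka McL.kb McL.gTab LeechMcLData.gens2 LeechCo3Data.gens

/-- The element of order 23. -/
noncomputable def pA : P := permOf ka kai base_valid.1

/-- The element of order 11. -/
noncomputable def pN : P := permOf kn kni base_valid.2.1

/-- The involution. -/
noncomputable def pB : P := permOf kb kb base_valid.2.2

theorem rep_A : Rep 10 552 ka pA := rep_permOf _
theorem rep_N : Rep 10 552 kn pN := rep_permOf _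
theorem rep_B : Rep 10 552 kb pB := rep_permOf _
theorem rep_B_inv : Rep 10 552 kb pB⁻¹ := rep_permOf_inv _

/-- The subgroup they generate. -/
noncomputable def H : Subgroup P := Subgroup.closure {pA, pN, pB}

theorem A_mem : pA ∈ H := Subgroup.subset_closure (by simp)
theorem N_mem : pN ∈ H := Subgroup.subset_closure (by simp)
theorem B_mem : pB ∈ H := Subgroup.subset_closure (by simp)

theorem gensOK_co3 : gensOK LeechCo3Data.gens [67343938137124686954512357785] = true := by
  have h := LeechCo3Data.cert552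
  simp only [cert, Bool.and_eq_true] at h
  exact h.1.1

theorem gensOK_two : gensOK LeechMcLData.gens2
    [67343938137124686954512357785, 62062060636173731114942761100] = true := by
  have h := LeechMcLData.cert275
  simp only [cert, Bool.and_eq_true] at h
  exact h.1.1

theorem H_le_range : H ≤ psi.range := by
  have hs := slp_sound hw slp_G (S := psi.range) fun i hi => by
    rw [List.length_map] at hi
    obtain ⟨g, hg, -⟩ := tab_mem_range (W' := LeechCo3Data.gens) g_valid.1 hi
      (by rw [g_valid.2.2, ← g_valid.2.1]; exact hi) gensOK_co3 (by simp)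
      (g_run i (by rw [← g_valid.2.1]; exact hi))
    refine ⟨psi g, ⟨g, rfl⟩, ?_⟩
    rw [List.getD_eq_getElem _ _ (by simpa using hi), List.getElem_map]
    rwa [List.getD_eq_getElem _ _ hi] at hg
  have hlen : (gTab.map Prod.fst).length = 5 := by rw [List.length_map, g_valid.2.1]
  have hat : ∀ k < 3, slpGAt.getD k 0 < (gTab.map Prod.fst).length + slpG.length := by
    intro k hk
    rw [hlen, List.getD_eq_getElem _ _ (by rw [slp_G_at.2.2.2.2]; exact hk)]
    simpa [Nat.blt_eq] using List.all_eq_true.1 slp_G_at.2.2.2.1 _ (List.getElem_mem _)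
  refine (Subgroup.closure_le _).2 ?_
  rintro x (rfl | rfl | rfl)
  · obtain ⟨g, hg, hr⟩ := hs _ (hat 0 (by norm_num))
    rw [slp_G_at.1] at hr
    rwa [rep_A.inj hr]
  · obtain ⟨g, hg, hr⟩ := hs _ (hat 1 (by norm_num))
    rw [slp_G_at.2.1] at hr
    rwa [rep_N.inj hr]
  · obtain ⟨g, hg, hr⟩ := hs _ (hat 2 (by norm_num))
    rw [slp_G_at.2.2.1] at hr
    rwa [rep_B.inj hr]

/-- The two-point stabiliser inside the stabiliser of the base vector. -/
noncomputable def incl : LeechTwoPoint.G2 vV →* G0 := Subgroup.inclusion inf_le_left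

theorem two_gen {m : ℕ} (hm : m < 12) : ∃ g : LeechTwoPoint.G2 vV,
    Rep 9 275 (McL.gTab.getD m (0, 0)).1 (McL.psi g) ∧ Rep 10 552 (g2Tab.getD m (0, 0)).1 (psi (incl g)) := by
  have hlen : m < LeechMcLData.gens2.length := by rw [g2_valid.2.2]; exact hm
  obtain ⟨g, hg, hmove⟩ := tab_mem_range (W' := LeechMcLData.gens2) g2_valid.1
    (by rw [g2_valid.2.1]; exact hm) hlen gensOK_two (by simp) (g2_run m hm)
  have hok := List.all_eq_true.1 gensOK_two _ (List.getElem_mem hlen)
  simp only [Bool.and_eq_true, List.all_eq_true, beq_iff_eq] at hok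
  have hV : (g : Co0) • vV = vV := Subtype.ext ((hmove kV kV (by
    rw [List.getD_eq_getElem _ _ hlen]
    exact hok.2 _ (by simp [kV])) vV coe_vV).trans coe_vV.symm)
  refine ⟨⟨(g : Co0), g.2, hV⟩, fun i => ?_, hg⟩
  have hgt : m < McL.gTab.length := by rw [McL.g_valid.2.1]; exact hm
  have hv := List.all_eq_true.1 McL.g_valid.1 _ (List.getElem_mem hgt)
  rw [List.getD_eq_getElem _ _ hgt]
  have hlt := (valid_at hv i).1
  have hr := McL.g_run m hm
  simp only [McL.runK, allF_iff, beq_iff_eq] at hr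
  have h1 := hr i i.2
  rw [List.getD_eq_getElem _ _ hgt] at h1
  rw [McL.psi_spec (j := ⟨_, hlt⟩) (Subtype.ext (hmove _ _ h1 _ rfl))]

theorem two_word : ∀ l : List ℕ, (∀ i ∈ l, i < 12) → ∃ g : LeechTwoPoint.G2 vV,
    Rep 9 275 (McL.gWordK l) (McL.psi g) ∧ Rep 10 552 (g2Word l) (psi (incl g))
  | [], _ => ⟨1, by rw [map_one]; exact rep_one McL.hw, by rw [map_one, map_one]; exact rep_one hw⟩
  | i :: l, h => by
    obtain ⟨g, hg1, hg2⟩ := two_gen (h i List.mem_cons_self)
    obtain ⟨x, hx1, hx2⟩ := two_word l fun j hj => h j (List.mem_cons_of_mem _ hj)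
    exact ⟨g * x, by rw [map_mul]; exact rep_comp McL.hw hg1 hx1,
      by rw [map_mul, map_mul]; exact rep_comp hw hg2 hx2⟩

theorem two_le_H : ∀ g : LeechTwoPoint.G2 vV, psi (incl g) ∈ H := by
  have hb : ∀ l : List ℕ, (∀ i ∈ l, Nat.blt i 12 = true) → ∀ i ∈ l, i < 12 := fun l h i hi => by
    simpa [Nat.blt_eq] using h i hi
  obtain ⟨a, a1, a2⟩ := two_word McL.aW (hb _ (List.all_eq_true.1 McL.ab_words.2.2.1))
  obtain ⟨b, b1, b2⟩ := two_word McL.bW (hb _ (List.all_eq_true.1 McL.ab_words.2.2.2))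
  rw [McL.ab_words.1] at a1
  rw [McL.ab_words.2.1] at b1
  have ha := McL.rep_A.inj a1
  have hb' := McL.rep_B.inj b1
  have htop : Subgroup.closure ({a, b} : Set (LeechTwoPoint.G2 vV)) = ⊤ := by
    apply Subgroup.map_injective McL.psi_injective
    rw [MonoidHom.map_closure, ← MonoidHom.range_eq_map, Set.image_pair, ← ha, ← hb']
    have hle : McL.H ≤ McL.psi.range := by
      refine (Subgroup.closure_le _).2 ?_
      rintro x (rfl | rfl)
      · exact McL.A_mem_range
      · exact McL.B_mem_range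
    refine Subgroup.eq_of_le_of_card_ge hle ?_
    rw [← Nat.card_congr (MonoidHom.ofInjective McL.psi_injective).toEquiv, LeechMcL.card_G2]
    exact McL.H_spec.2.ge
  have hs := slp_sound hw slp_H (S := H) fun i hi => by
    simp only [List.length_cons, List.length_nil] at hi
    match i, hi with
    | 0, _ => exact ⟨pA, A_mem, rep_A⟩
    | 1, _ => exact ⟨pN, N_mem, rep_N⟩
    | 2, _ => exact ⟨pB, B_mem, rep_B⟩
  have hat : ∀ k < 2, slpHAt.getD k 0 < [ka, kn, kb].length + slpH.length := by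
    intro k hk
    rw [List.getD_eq_getElem _ _ (by rw [slp_H_at.2.2.2]; exact hk)]
    simpa [Nat.blt_eq] using List.all_eq_true.1 slp_H_at.2.2.1 _ (List.getElem_mem _)
  obtain ⟨x, hx, hxr⟩ := hs _ (hat 0 (by norm_num))
  obtain ⟨y, hy, hyr⟩ := hs _ (hat 1 (by norm_num))
  rw [slp_H_at.1] at hxr
  rw [slp_H_at.2.1] at hyr
  have hsub : (⊤ : Subgroup (LeechTwoPoint.G2 vV)) ≤ H.comap (psi.comp incl) := by
    rw [← htop, Subgroup.closure_le]
    rintro z (rfl | rfl)
    · show psi (incl z) ∈ H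
      rwa [a2.inj hxr]
    · show psi (incl z) ∈ H
      rwa [b2.inj hyr]
  exact fun g => hsub (Subgroup.mem_top g)

/-- The index of the second base vector. -/
noncomputable def fV : Fin 552 := ⟨iV, fixed_n.2.2.2.2.2.2.1⟩

theorem vecAt_fV : (vecAt fV : leechLattice) = vV := by
  refine Subtype.ext ?_
  rw [coe_vV, coe_vecAt]
  exact congrArg Pk fixed_n.2.2.2.2.2.2.2.2.2.2

theorem reach (i : Fin 552) : ∃ g ∈ H, g fV = i := by
  have hall := orb_H
  have h3 := List.all_eq_true.1 hall.1 i (List.mem_range.2 i.2)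
  have he := beq_iff_eq.1 (List.all_eq_true.1 hall.2 i (List.mem_range.2 i.2))
  generalize orbW.getD i [] = l at h3 he
  obtain ⟨L, hL, hmem⟩ : ∃ L : List P, List.Forall₂ (Rep 10 552) (l.map fun k => [ka, kn, kb].getD k 0) L ∧
      ∀ g ∈ L, g ∈ H := by
    clear he
    induction l with
    | nil => exact ⟨[], List.Forall₂.nil, by simp⟩
    | cons k l ih =>
      simp only [List.all_cons, Bool.and_eq_true, Nat.blt_eq] at h3
      obtain ⟨L, hL, hmem⟩ := ih h3.2
      match k, h3.1 with
      | 0, _ => exact ⟨pA :: L, List.Forall₂.cons rep_A hL, by simpa [A_mem] using hmem⟩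
      | 1, _ => exact ⟨pN :: L, List.Forall₂.cons rep_N hL, by simpa [N_mem] using hmem⟩
      | 2, _ => exact ⟨pB :: L, List.Forall₂.cons rep_B hL, by simpa [B_mem] using hmem⟩
  refine ⟨L.prod, list_prod_mem hmem, Fin.ext ?_⟩
  rw [← app_eq hL fV]
  exact he

theorem H_eq_range : H = psi.range := by
  refine le_antisymm H_le_range ?_
  rintro _ ⟨g, rfl⟩
  obtain ⟨h, hh, he⟩ := reach (psi g fV)
  obtain ⟨k, rfl⟩ := H_le_range hh
  have hfix : psi (k⁻¹ * g) fV = fV := by
    rw [map_mul, map_inv, Equiv.Perm.mul_apply, ← he, Equiv.Perm.inv_def, Equiv.symm_apply_apply]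
  have hv : ((k⁻¹ * g : G0) : Co0) • vV = vV := by
    have h := vecAt_psi (k⁻¹ * g) fV
    rw [hfix, vecAt_fV] at h
    exact h.symm
  have hm := two_le_H ⟨((k⁻¹ * g : G0) : Co0), (k⁻¹ * g).2, hv⟩
  rw [show incl ⟨((k⁻¹ * g : G0) : Co0), (k⁻¹ * g).2, hv⟩ = k⁻¹ * g from rfl, map_mul, map_inv] at hm
  have := mul_mem hh hm
  rwa [mul_inv_cancel_left] at this

theorem H_spec : Nonempty (Cfsg.Spor.Co3 ≃* H) ∧ Nat.card H = 495766656000 ∧ H ≤ pairStab cod ∧
    IsSimpleGroup H := by
  obtain ⟨e⟩ := nonempty_iso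
  let f : G0 ≃* H := (MonoidHom.ofInjective psi_injective).trans (MulEquiv.subgroupCongr H_eq_range.symm)
  refine ⟨⟨e.trans f⟩, ?_, H_eq_range ▸ range_le_pairStab, ?_⟩
  · rw [← Nat.card_congr f.toEquiv, LeechCo3.card_stab]
  · have := LeechCo3.isSimpleGroup_stab
    exact MathieuSimple.isSimpleGroup_congr' f

end CfsgLib.Sporadic.OutCert.Co3
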