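import Cfsg.Agent.Lib.Sporadic.OutCert.Co3.Defs

/-!
The separating points and the possible images under centralising elements.
-/

set_option autoImplicit false
set_option maxRecDepth 100000
set_option maxHeartbeats 0
set_option Elab.async false

namespace CfsgLib.Sporadic.OutCert.Co3

theorem sigA_ok : sigCheck 2 552 cod qA sigATree = true := by decide +kernel

theorem sigN_ok : sigCheck 2 552 cod qN sigNTree = true := by decide +kernel

theorem cent_A : (List.range 552).all centAK = true := by decide +kernel

theorem cand_X : ((List.range 552).all fun t => !(autN t == autN xN) || candX.contains t) = true := by
  decide +kernel

theorem cand_Y : ((List.range 552).all fun t => !(autN t == autN yN) || candY.contains t) = true := by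
  decide +kernel

theorem cent_N : ([f0, f1].all fun f => candX.all fun t => candY.all fun u => tripleK f t u) = true := by
  decide +kernel

end CfsgLib.Sporadic.OutCert.Co3
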