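import Cfsg.Agent.Lib.Sporadic.OutCert.Co3.Group
import Cfsg.Agent.Lib.Sporadic.OutCert.Co3.CheckSig

/-!
The centralisers of the elements of order 23 and 11.
-/

set_option autoImplicit false
set_option maxRecDepth 10000

namespace CfsgLib.Sporadic.OutCert.Co3

open Cfsg

attribute [local irreducible] lk pkF allF compK cod ka kai kn kni kb ks aPows nPows sigATree sigNTree candX candY

theorem pow_rep {n : ℕ} {g : P} (hg : Rep 10 552 n g) {l : List ℕ} {m : ℕ}
    (h : (l.head? == some (oneK 10 552) && ((List.range m).all fun i =>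
      compK 10 552 n (l.getD i 0) == l.getD (i + 1) 0) && compK 10 552 n (l.getD m 0) == oneK 10 552) = true) :
    (∀ i ≤ m, Rep 10 552 (l.getD i 0) (g ^ i)) ∧ g ^ (m + 1) = 1 := by
  simp only [Bool.and_eq_true, List.all_eq_true, List.mem_range, beq_iff_eq] at h
  have hall : ∀ i ≤ m, Rep 10 552 (l.getD i 0) (g ^ i) := by
    intro i
    induction i with
    | zero =>
      intro _
      cases l with
      | nil => simp at h
      | cons a l =>
        have h1 : a = oneK 10 552 := by simpa using h.1.1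
        rw [pow_zero, List.getD_cons_zero, h1]
        exact rep_one hw
    | succ i ih =>
      intro hi
      rw [← h.1.2 i (by omega), pow_succ']
      exact rep_comp hw hg (ih (by omega))
  refine ⟨hall, ?_⟩
  have h2 := rep_comp hw hg (hall m le_rfl)
  rw [h.2, ← pow_succ'] at h2
  exact h2.inj (rep_one hw)

theorem rep_aPow {i : ℕ} (hi : i < 23) : Rep 10 552 (aPows.getD i 0) (pA ^ i) :=
  (pow_rep rep_A pows.1).1 i (by omega)

theorem rep_nPow {i : ℕ} (hi : i < 11) : Rep 10 552 (nPows.getD i 0) (pN ^ i) :=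
  (pow_rep rep_N pows.2).1 i (by omega)

theorem A_pow : pA ^ 23 = 1 := (pow_rep rep_A pows.1).2

theorem N_pow : pN ^ 11 = 1 := (pow_rep rep_N pows.2).2

theorem orderOf_A : orderOf pA = 23 := by
  haveI : Fact (Nat.Prime 23) := ⟨by norm_num⟩
  refine orderOf_eq_prime A_pow fun e => rels.2.2.2.2.2.1 ?_
  have h := rep_A (0 : Fin 552)
  rw [e] at h
  exact h

theorem orderOf_N : orderOf pN = 11 := by
  haveI : Fact (Nat.Prime 11) := ⟨by norm_num⟩
  refine orderOf_eq_prime N_pow fun e => rels.2.2.2.2.2.2.1 ?_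
  have h := rep_N ⟨xN, fixed_n.2.2.2.2.2.2.2.2.1⟩
  rw [e] at h
  exact h

theorem comm_of_eq {p q : ℕ} {g h : P} (hp : Rep 10 552 p g) (hq : Rep 10 552 q h)
    (e : compK 10 552 p q = compK 10 552 q p) : Commute g h := by
  have h1 := rep_comp hw hp hq
  rw [e] at h1
  exact h1.inj (rep_comp hw hq hp)

theorem N_B : Commute pN pB := comm_of_eq rep_N rep_B rels.2.1
theorem S_A : Commute pS pA := comm_of_eq rep_S rep_A rels.2.2.1
theorem S_N : Commute pS pN := comm_of_eq rep_S rep_N rels.2.2.2.1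
theorem S_B : Commute pS pB := comm_of_eq rep_S rep_B rels.2.2.2.2.1

theorem N_A : pN * pA = pA ^ 4 * pN := by
  have h1 := rep_comp hw rep_N rep_A
  rw [rels.1] at h1
  exact h1.inj (rep_comp hw (rep_aPow (by norm_num)) rep_N)

theorem S_not_mem : pS ∉ H := by
  intro hS
  have hne : (⟨pS, hS⟩ : H) ≠ 1 := by
    intro e
    have e' : pS = 1 := congrArg Subtype.val e
    have h := rep_S (0 : Fin 552)
    rw [e'] at h
    exact rels.2.2.2.2.2.2.2.2 h
  have hc : (⟨pS, hS⟩ : H) ∈ Subgroup.center H := by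
    rw [Subgroup.mem_center_iff]
    intro g
    refine Subtype.ext (Eq.symm ?_)
    have hle : H ≤ Subgroup.centralizer ({pS} : Set P) := by
      refine (Subgroup.closure_le _).2 ?_
      rintro x (rfl | rfl | rfl) <;> rw [SetLike.mem_coe, Subgroup.mem_centralizer_singleton_iff]
      · exact S_A.symm.eq
      · exact S_N.symm.eq
      · exact S_B.symm.eq
    exact (Subgroup.mem_centralizer_singleton_iff.1 (hle g.2)).symm
  have := H_spec.2.2.2
  rcases IsSimpleGroup.eq_bot_or_eq_top_of_normal (Subgroup.center H) inferInstance with h | h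
  · rw [h, Subgroup.mem_bot] at hc
    exact hne hc
  · have hab := (Subgroup.mem_center_iff.1 (h.symm ▸ Subgroup.mem_top (⟨pA, A_mem⟩ : H))) ⟨pN, N_mem⟩
    have hab' : pN * pA = pA * pN := congrArg Subtype.val hab
    rw [N_A] at hab'
    have h4 : pA ^ 4 = pA ^ 1 := by rw [pow_one]; exact mul_right_cancel hab'
    rw [pow_eq_pow_iff_modEq, orderOf_A] at h4
    exact absurd h4 (by decide)

theorem S_mul_not_mem {g : P} (hg : g ∈ H) : pS * g ∉ H := fun h =>
  S_not_mem (by simpa [mul_assoc] using mul_mem h (inv_mem hg))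

theorem cod_comm {c g : P} (hc : c ∈ pairStab cod) (hcg : Commute c g) {t : Fin 552} {n : ℕ}
    (hn : Rep 10 552 n g) : cod (c t) (lk 10 n (c t)) = cod t (lk 10 n t) := by
  rw [hn, hn, show g (c t) = c (g t) from (DFunLike.congr_fun hcg.eq t).symm]
  exact hc t (g t)

theorem autA_eq {c : P} (hc : c ∈ pairStab cod) (hca : Commute c pA) (t : Fin 552) :
    autA (c t) = autA t := by
  rw [autA, autA]
  congr 1
  refine List.map_congr_left fun k hk => ?_
  exact cod_comm hc (hca.pow_right _) (rep_aPow (by have := List.mem_range.1 hk; omega))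

theorem autN_eq {c : P} (hc : c ∈ pairStab cod) (hca : Commute c pN) (t : Fin 552) :
    autN (c t) = autN t := by
  rw [autN, autN]
  congr 1
  refine List.map_congr_left fun k hk => ?_
  exact cod_comm hc (hca.pow_right _) (rep_nPow (by have := List.mem_range.1 hk; omega))

theorem crossN_eq {c : P} (hc : c ∈ pairStab cod) (hca : Commute c pN) (t u : Fin 552) :
    crossN (c t) (c u) = crossN t u := by
  rw [crossN, crossN]
  congr 1
  refine List.map_congr_left fun k hk => ?_
  have hr := rep_nPow (List.mem_range.1 hk)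
  rw [hr, hr, show (pN ^ k) (c u) = c ((pN ^ k) u) from (DFunLike.congr_fun (hca.pow_right k).eq u).symm]
  exact hc t _

theorem cent_A_mem {c : P} (hc : c ∈ H) (hca : Commute c pA) : c ∈ Subgroup.zpowers pA := by
  have hp := H_spec.2.2.1 hc
  let x : Fin 552 := ⟨xA, fixed_n.2.2.2.2.2.2.2.1⟩
  have h := List.all_eq_true.1 cent_A (c x) (List.mem_range.2 (c x).2)
  simp only [centAK, Bool.or_eq_true, Bool.not_eq_true', beq_eq_false_iff_ne, ne_eq, List.any_eq_true,
    List.mem_range, Nat.beq_eq] at h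
  obtain ⟨i, hi, h⟩ := h.resolve_left (fun hne => hne (autA_eq hp hca x))
  have agree : ∀ e : P, e ∈ pairStab cod → Commute e pA → e x = c x → c = e := by
    intro e he hea hex
    refine eq_of_agree sigA_ok hp he fun q hq => ?_
    obtain ⟨k, hk, rfl⟩ := List.mem_map.1 hq
    refine ⟨(pA ^ k) x, (rep_aPow (List.mem_range.1 hk) x).symm, ?_⟩
    calc c ((pA ^ k) x) = (pA ^ k) (c x) := DFunLike.congr_fun (hca.pow_right k).eq x
      _ = (pA ^ k) (e x) := by rw [hex]
      _ = e ((pA ^ k) x) := (DFunLike.congr_fun (hea.pow_right k).eq x).symm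
  have hAp : pA ^ i ∈ pairStab cod := pow_mem (H_spec.2.2.1 A_mem) i
  have hr : lk 10 (aPows.getD i 0) xA = ((pA ^ i) x : ℕ) := rep_aPow hi x
  rw [hr] at h
  rcases h with h | h
  · rw [agree (pA ^ i) hAp ((Commute.refl pA).pow_left i) (Fin.ext h)]
    exact Subgroup.pow_mem _ (Subgroup.mem_zpowers pA) i
  · rw [rep_S] at h
    have := agree (pS * pA ^ i) (mul_mem S_mem_pairStab hAp) (S_A.mul_left ((Commute.refl pA).pow_left i))
      (Fin.ext h)
    exact absurd (this ▸ hc) (S_mul_not_mem (pow_mem A_mem i))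

theorem rep_sOf {e : ℕ} (he : e < 4) : ∃ s : P, Rep 10 552 (sOf e) s ∧ Commute s pN ∧ s ∈ pairStab cod ∧
    (s = 1 ∨ s = pB ∨ s = pS ∨ s = pS * pB) := by
  have hB := H_spec.2.2.1 B_mem
  match e, he with
  | 0, _ => exact ⟨1, rep_one hw, Commute.one_left _, one_mem _, Or.inl rfl⟩
  | 1, _ => exact ⟨pB, rep_B, N_B.symm, hB, Or.inr (Or.inl rfl)⟩
  | 2, _ => exact ⟨pS, rep_S, S_N, S_mem_pairStab, Or.inr (Or.inr (Or.inl rfl))⟩
  | 3, _ => exact ⟨pS * pB, rep_comp hw rep_S rep_B, S_N.mul_left N_B.symm, mul_mem S_mem_pairStab hB,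
      Or.inr (Or.inr (Or.inr rfl))⟩

theorem involution_cent_N {c : P} (hc : c ∈ H) (h2 : c * c = 1) (h1 : c ≠ 1) (hcn : Commute c pN) : c = pB := by
  have hp := H_spec.2.2.1 hc
  obtain ⟨hfix, hf0, hf1, l0, l1, -, -, -, lx, ly, -⟩ := fixed_n
  let F : Fin 552 := ⟨f0, l0⟩
  let X : Fin 552 := ⟨xN, lx⟩
  let Y : Fin 552 := ⟨yN, ly⟩
  have hF : (c F : ℕ) ∈ [f0, f1] := by
    have h := List.all_eq_true.1 hfix (c F) (List.mem_range.2 (c F).2)
    have hNF : pN F = F := Fin.ext ((rep_N F).symm.trans hf0)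
    rw [rep_N, show pN (c F) = c (pN F) from (DFunLike.congr_fun hcn.eq F).symm, hNF] at h
    simpa using h
  have hX : (c X : ℕ) ∈ candX := by
    have h := List.all_eq_true.1 cand_X (c X) (List.mem_range.2 (c X).2)
    rw [autN_eq hp hcn X] at h
    simpa [X] using h
  have hY : (c Y : ℕ) ∈ candY := by
    have h := List.all_eq_true.1 cand_Y (c Y) (List.mem_range.2 (c Y).2)
    rw [autN_eq hp hcn Y] at h
    simpa [Y] using h
  have h := List.all_eq_true.1 (List.all_eq_true.1 (List.all_eq_true.1 cent_N _ hF) _ hX) _ hY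
  simp only [tripleK, Bool.or_eq_true, Bool.not_eq_true', beq_eq_false_iff_ne, ne_eq] at h
  obtain h := ((h.resolve_left (fun hne => hne (hp X F))).resolve_left (fun hne => hne (hp Y F))).resolve_left
    (fun hne => hne (crossN_eq hp hcn X Y))
  simp only [List.any_eq_true, List.mem_range, matchK, Bool.and_eq_true, Nat.beq_eq] at h
  obtain ⟨i, hi, e, he, hF', hX', hY'⟩ := h
  obtain ⟨s, hsr, hsn, hsp, hs⟩ := rep_sOf he
  have hir := rep_nPow hi
  have hap : ∀ z : Fin 552, lk 10 (nPows.getD i 0) (lk 10 (sOf e) z) = (((pN ^ i * s) z : Fin 552) : ℕ) :=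
    fun z => by rw [hsr, hir]; rfl
  rw [show f0 = (F : ℕ) from rfl, hap] at hF'
  rw [show xN = (X : ℕ) from rfl, hap] at hX'
  rw [show yN = (Y : ℕ) from rfl, hap] at hY'
  have hm : pN ^ i ∈ pairStab cod := pow_mem (H_spec.2.2.1 N_mem) i
  have hcomm : Commute (pN ^ i * s) pN := ((Commute.refl pN).pow_left i).mul_left hsn
  have move : ∀ (z : Fin 552) (k : ℕ), (pN ^ i * s) z = c z → c ((pN ^ k) z) = (pN ^ i * s) ((pN ^ k) z) :=
    fun z k hz => by
    calc c ((pN ^ k) z) = (pN ^ k) (c z) := DFunLike.congr_fun (hcn.pow_right k).eq z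
      _ = (pN ^ k) ((pN ^ i * s) z) := by rw [hz]
      _ = _ := (DFunLike.congr_fun (hcomm.pow_right k).eq z).symm
  have eF : (pN ^ i * s) F = c F := Fin.ext hF'
  have heq : c = pN ^ i * s := by
    refine eq_of_agree sigN_ok hp (mul_mem hm hsp) fun q hq => ?_
    simp only [qN, List.mem_append, List.mem_map, List.mem_cons, List.not_mem_nil, or_false] at hq
    rcases hq with ⟨k, hk, rfl⟩ | ⟨k, hk, rfl⟩ | rfl | rfl
    · exact ⟨(pN ^ k) X, (rep_nPow (List.mem_range.1 hk) X).symm, move X k (Fin.ext hX')⟩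
    · exact ⟨(pN ^ k) Y, (rep_nPow (List.mem_range.1 hk) Y).symm, move Y k (Fin.ext hY')⟩
    · exact ⟨F, rfl, eF.symm⟩
    · refine ⟨⟨f1, l1⟩, rfl, ?_⟩
      let F' : Fin 552 := ⟨f1, l1⟩
      have hN' : pN F' = F' := Fin.ext ((rep_N F').symm.trans hf1)
      have hNF : pN F = F := Fin.ext ((rep_N F).symm.trans hf0)
      have fixes : ∀ d : P, Commute d pN → d F' = F ∨ d F' = F' := by
        intro d hd
        have h := List.all_eq_true.1 hfix (d F') (List.mem_range.2 (d F').2)
        rw [rep_N, show pN (d F') = d (pN F') from (DFunLike.congr_fun hd.eq F').symm, hN'] at h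
        simp at h
        rcases h with h | h
        · exact Or.inl (Fin.ext h)
        · exact Or.inr (Fin.ext h)
      have hne : F' ≠ F := fun e => fixed_n.2.2.2.2.2.1 (congrArg Fin.val e).symm
      have u1 : c F' ≠ c F := fun e => hne (c.injective e)
      have u2 : (pN ^ i * s) F' ≠ (pN ^ i * s) F := fun e => hne ((pN ^ i * s).injective e)
      have fixes0 : ∀ d : P, Commute d pN → d F = F ∨ d F = F' := by
        intro d hd
        have h := List.all_eq_true.1 hfix (d F) (List.mem_range.2 (d F).2)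
        rw [rep_N, show pN (d F) = d (pN F) from (DFunLike.congr_fun hd.eq F).symm, hNF] at h
        simp at h
        rcases h with h | h
        · exact Or.inl (Fin.ext h)
        · exact Or.inr (Fin.ext h)
      rcases fixes c hcn with a | a <;> rcases fixes _ hcomm with b | b <;>
        rcases fixes0 c hcn with d | d <;>
        first
          | exact a.trans b.symm
          | exact absurd (a.trans d.symm) u1
          | exact absurd (b.trans (eF.trans d).symm) u2
  have hs2 : s * s = 1 := by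
    have hBB : pB * pB = 1 := (congrArg (pB * ·) (rep_B.inj rep_B_inv)).trans (mul_inv_cancel pB)
    have hSS : pS * pS = 1 := (congrArg (pS * ·) (rep_S.inj (rep_permOf_inv _))).trans (mul_inv_cancel pS)
    rcases hs with rfl | rfl | rfl | rfl
    · exact one_mul 1
    · exact hBB
    · exact hSS
    · rw [S_B.symm.mul_mul_mul_comm, hSS, hBB, one_mul]
  have hni : pN ^ (i + i) = 1 := by
    have := h2
    rwa [heq, (hsn.pow_right i).mul_mul_mul_comm, hs2, mul_one, ← pow_add] at this
  have hi0 : i = 0 := by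
    have := orderOf_dvd_of_pow_eq_one hni
    rw [orderOf_N] at this
    omega
  rw [hi0, pow_zero, one_mul] at heq
  rcases hs with rfl | rfl | rfl | rfl
  · exact absurd heq h1
  · exact heq
  · exact absurd (heq ▸ hc) S_not_mem
  · exact absurd (heq ▸ hc) (S_mul_not_mem B_mem)

end CfsgLib.Sporadic.OutCert.Co3
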