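import Cfsg.Agent.Lib.Sporadic.OutCert.Co3.Defs

/-!
Kernel checks of the data for the automorphisms of the third Conway group.
-/

set_option autoImplicit false
set_option maxRecDepth 100000
set_option maxHeartbeats 0
set_option Elab.async false

namespace CfsgLib.Sporadic.OutCert.Co3

open CfsgLib.SmallGroups

theorem g_valid : (gTab.all fun g => validK 10 552 g.1 g.2) = true ∧ gTab.length = 5 ∧
    LeechCo3Data.gens.length = 5 := by decide +kernel

theorem g2_valid : (g2Tab.all fun g => validK 10 552 g.1 g.2) = true ∧ g2Tab.length = 12 ∧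
    LeechMcLData.gens2.length = 12 := by decide +kernel

theorem v_keys : List.IsChain (· < ·) vKeys ∧ vKeys.length = 552 ∧
    (vKeys.all fun k => LeechCo3Data.tree552.has k) = true := by decide +kernel

theorem v_at : ((List.range 552).map fun i => lk 100 vN i) = vKeys := by decide +kernel

theorem sigma_ok : validK 10 552 ks ks = true ∧ ((List.range 552).all fun i => (List.range 24).all fun q =>
    LeechOrbit.dig (lk 100 vN i) q + LeechOrbit.dig (lk 100 vN (lk 10 ks i)) q ==
      LeechOrbit.dig 67343938137124686954512357785 q) = true := by decide +kernel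

theorem base_valid : validK 10 552 ka kai = true ∧ validK 10 552 kn kni = true ∧
    validK 10 552 kb kb = true := by decide +kernel

theorem pows : (aPows.head? == some (oneK 10 552) && ((List.range 22).all fun i =>
      compK 10 552 ka (aPows.getD i 0) == aPows.getD (i + 1) 0) &&
      compK 10 552 ka (aPows.getD 22 0) == oneK 10 552) = true ∧
    (nPows.head? == some (oneK 10 552) && ((List.range 10).all fun i =>
      compK 10 552 kn (nPows.getD i 0) == nPows.getD (i + 1) 0) &&
      compK 10 552 kn (nPows.getD 10 0) == oneK 10 552) = true := by decide +kernel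

theorem rels : compK 10 552 kn ka = compK 10 552 (aPows.getD 4 0) kn ∧
    compK 10 552 kn kb = compK 10 552 kb kn ∧ compK 10 552 ks ka = compK 10 552 ka ks ∧
    compK 10 552 ks kn = compK 10 552 kn ks ∧ compK 10 552 ks kb = compK 10 552 kb ks ∧
    lk 10 ka 0 ≠ 0 ∧ lk 10 kn xN ≠ xN ∧ lk 10 kb f0 ≠ f0 ∧ lk 10 ks 0 ≠ 0 := by decide +kernel

theorem test_ok : testK 10 552 [aPows.getD testE.1 0, nPows.getD testE.2.1 0, kb] testE.2.2 = true ∧
    testK 10 552 [aPows.getD (testE.1 * 5 % 23) 0, nPows.getD testE.2.1 0, kb] testE.2.2 = false := by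
  decide +kernel

theorem fixed_n : ((List.range 552).all fun y => !(lk 10 kn y == y) || (y == f0 || y == f1)) = true ∧
    lk 10 kn f0 = f0 ∧ lk 10 kn f1 = f1 ∧ f0 < 552 ∧ f1 < 552 ∧ f0 ≠ f1 ∧ iV < 552 ∧ xA < 552 ∧
    xN < 552 ∧ yN < 552 ∧ lk 100 vN iV = 62062060636173731114942761100 := by decide +kernel

end CfsgLib.Sporadic.OutCert.Co3
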