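import Cfsg.Agent.Lib.Sporadic.OutCert.Co3.Defs

/-!
The words of the lattice library move the listed vectors as the tables say.
-/

set_option autoImplicit false
set_option maxRecDepth 100000
set_option maxHeartbeats 0
set_option Elab.async false

namespace CfsgLib.Sporadic.OutCert.Co3

open CfsgLib.SmallGroups

theorem run_0 : runK LeechCo3Data.gens gTab 0 = true := by decide +kernel

theorem run_1 : runK LeechCo3Data.gens gTab 1 = true := by decide +kernel

theorem run_2 : runK LeechCo3Data.gens gTab 2 = true := by decide +kernel

theorem run_3 : runK LeechCo3Data.gens gTab 3 = true := by decide +kernel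

theorem run_4 : runK LeechCo3Data.gens gTab 4 = true := by decide +kernel

theorem g_run : ∀ m < 5, runK LeechCo3Data.gens gTab m = true := fun m hm =>
  match m, hm with
  | 0, _ => run_0
  | 1, _ => run_1
  | 2, _ => run_2
  | 3, _ => run_3
  | 4, _ => run_4

end CfsgLib.Sporadic.OutCert.Co3
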