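import Cfsg.Agent.Lib.Sporadic.OutCert.Co3.Check
import Cfsg.Agent.Lib.Sporadic.OutCert.Co3.CheckRun
import Cfsg.Agent.Lib.SmallGroups.LeechCo3
import Cfsg.Agent.Lib.SmallGroups.LeechPairs
import Cfsg.Prelude.Def_Spor_Conway

/-!
The third Conway group acting on the 552 minimal vectors completing the base vector to a triangle.
-/

set_option autoImplicit false
set_option maxRecDepth 10000

namespace CfsgLib.Sporadic.OutCert.Co3

open Cfsg CfsgLib.SmallGroups CfsgLib.SmallGroups.Golay CfsgLib.SmallGroups.LeechOrbit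
  CfsgLib.SmallGroups.LeechEnum CfsgLib.SmallGroups.LeechLists CfsgLib.SmallGroups.LeechVectorStab
  CfsgLib.SmallGroups.LeechPairs

attribute [local irreducible] lk pkF allF compK ka kai kn kni kb ks gTab g2Tab vKeys vN
  LeechCo3Data.tree552

/-- Permutations of the vectors. -/
abbrev P : Type := Equiv.Perm (Fin 552)

theorem hw : 552 ≤ 2 ^ 10 := by norm_num

/-- The stabiliser of the base vector. -/
noncomputable abbrev G0 : Subgroup Co0 := MulAction.stabilizer Co0 v48

theorem nonempty_iso : Nonempty (Cfsg.Spor.Co3 ≃* G0) := by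
  have hV : Spor.leechV = -v48 := Subtype.ext (funext fun q => by
    show Spor.vecV q = -((v48 : leechLattice) : GolayPt → ℤ) q
    rw [coe_v48]; revert q; decide +kernel)
  have key : ∀ g : Equiv.Perm leechLattice, g ∈ Co0 → (g Spor.leechV = Spor.leechV ↔ g v48 = v48) := by
    intro g hg
    rw [hV]
    have h := map_neg (AddMonoidHom.mk' g hg.1) v48
    simp only [AddMonoidHom.mk'_apply] at h
    rw [h, neg_inj]
  have mem : ∀ g : Equiv.Perm leechLattice, g ∈ Spor.Co3 ↔ g ∈ Co0 ∧ g v48 = v48 := by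
    intro g
    simp only [Spor.Co3, Subgroup.mem_inf, MulAction.mem_stabilizer_iff, Equiv.Perm.smul_def]
    exact ⟨fun ⟨h1, h2⟩ => ⟨h1, (key g h1).1 h2⟩, fun ⟨h1, h2⟩ => ⟨h1, (key g h1).2 h2⟩⟩
  exact ⟨{
    toFun := fun g => ⟨⟨g.1, ((mem g.1).1 g.2).1⟩, ((mem g.1).1 g.2).2⟩
    invFun := fun g => ⟨g.1.1, (mem _).2 ⟨g.1.2, g.2⟩⟩
    left_inv := fun _ => rfl
    right_inv := fun _ => rfl
    map_mul' := fun _ _ => rfl }⟩

/-- The vectors. -/
abbrev W : Type := {x : leechLattice // x ∈ vset v48}

theorem card_W : Nat.card W = 552 := by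
  rw [show Nat.card W = (vset v48).ncard from Nat.card_coe_set_eq _, ncard_vset v48 norm_v48]

instance finite_W : Finite W := Nat.finite_of_card_ne_zero (by rw [card_W]; norm_num)

theorem key_mem (i : Fin 552) : lk 100 vN i ∈ LeechCo3Data.tree552.keys := by
  have h : lk 100 vN i ∈ vKeys := by
    rw [← v_at]
    exact List.mem_map.2 ⟨i, List.mem_range.2 i.2, rfl⟩
  exact VTree.find_mem _ _ (List.all_eq_true.1 v_keys.2.2 _ h)

/-- The vector with a given index. -/
noncomputable def vecAt (i : Fin 552) : W :=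
  ⟨⟨Pk (lk 100 vN i), mem_lattice_keys LeechCo3Data.cert552 kV_mem (key_mem i)⟩, by
    rw [vset_base]
    exact ⟨_, key_mem i, rfl⟩⟩

theorem coe_vecAt (i : Fin 552) : (((vecAt i : W) : leechLattice) : GolayPt → ℤ) = Pk (lk 100 vN i) := rfl

theorem vecAt_injective : Function.Injective vecAt := by
  intro i j e
  have h1 : Pk (lk 100 vN i) = Pk (lk 100 vN j) := congrArg (fun x : W => ((x : leechLattice) : GolayPt → ℤ)) e
  have h2 := Pk_inj LeechCo3Data.canon552 (key_mem i) (key_mem j) h1
  have hnd : ((List.range 552).map fun i => lk 100 vN i).Nodup := by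
    rw [v_at]
    exact ((List.isChain_iff_pairwise).1 v_keys.1).imp fun h => ne_of_lt h
  exact Fin.ext (List.inj_on_of_nodup_map hnd (List.mem_range.2 i.2) (List.mem_range.2 j.2) h2)

/-- The numbering of the vectors. -/
noncomputable def vecEquiv : Fin 552 ≃ W :=
  Equiv.ofBijective vecAt (vecAt_injective.bijective_of_nat_card_le (by rw [card_W, Nat.card_fin]))

theorem smul_mem (g : G0) (x : W) : (g : Co0) • (x : leechLattice) ∈ vset v48 := by
  have h := smul_mem_vset (g := (g : Co0)) x.2
  rwa [show (g : Co0) • v48 = v48 from g.2] at h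

/-- The action on the vectors. -/
noncomputable def actHom : G0 →* Equiv.Perm W :=
  MonoidHom.mk' (fun g =>
    { toFun := fun x => ⟨(g : Co0) • (x : leechLattice), smul_mem g x⟩
      invFun := fun x => ⟨((g⁻¹ : G0) : Co0) • (x : leechLattice), smul_mem g⁻¹ x⟩
      left_inv := fun x => Subtype.ext (inv_smul_smul (g : Co0) (x : leechLattice))
      right_inv := fun x => Subtype.ext (smul_inv_smul (g : Co0) (x : leechLattice)) })
    fun g h => Equiv.ext fun x => Subtype.ext (mul_smul (g : Co0) (h : Co0) (x : leechLattice))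

/-- The action on the indices. -/
noncomputable def psi : G0 →* P :=
  vecEquiv.symm.permCongrHom.toMonoidHom.comp actHom

theorem psi_spec {g : G0} {i j : Fin 552}
    (h : (g : Co0) • (vecAt i : leechLattice) = (vecAt j : leechLattice)) : psi g i = j := by
  show vecEquiv.symm (actHom g (vecEquiv i)) = j
  rw [Equiv.symm_apply_eq]
  exact Subtype.ext h

theorem vecAt_psi (g : G0) (i : Fin 552) :
    (vecAt (psi g i) : leechLattice) = (g : Co0) • (vecAt i : leechLattice) :=
  congrArg Subtype.val (vecEquiv.apply_symm_apply (actHom g (vecEquiv i)))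

theorem psi_injective : Function.Injective psi := by
  have hsimple := LeechCo3.isSimpleGroup_stab
  rw [← MonoidHom.ker_eq_bot_iff]
  refine (psi.normal_ker).eq_bot_or_eq_top.resolve_right fun htop => ?_
  obtain ⟨g, g1, g2⟩ := transitive_vset v48 (vecAt 0) (vecAt 1) norm_v48 (vecAt 0).2 (vecAt 1).2
  have h1 : psi ⟨g, g1⟩ = 1 := MonoidHom.mem_ker.1 (htop ▸ Subgroup.mem_top _)
  have h2 := psi_spec (g := ⟨g, g1⟩) g2
  rw [h1] at h2
  exact absurd h2 (by decide)

theorem cod_eq (i j : Fin 552) :
    cod i j = if dotInt ((vecAt i : leechLattice) : GolayPt → ℤ) (vecAt j : leechLattice) == 8 then 1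
      else if dotInt ((vecAt i : leechLattice) : GolayPt → ℤ) (vecAt j : leechLattice) == 16 then 0 else 2 := by
  rw [coe_vecAt, coe_vecAt, dotK_eq, cod]

theorem range_le_pairStab : psi.range ≤ pairStab cod := by
  rintro _ ⟨g, rfl⟩ i j
  rw [cod_eq, cod_eq, vecAt_psi, vecAt_psi, dot_smul]

/-- Exchanging the vectors of a pair. -/
noncomputable def pS : P := permOf ks ks sigma_ok.1

theorem rep_S : Rep 10 552 ks pS := rep_permOf _

theorem vecAt_S (i : Fin 552) : (vecAt (pS i) : leechLattice) = v48 - (vecAt i : leechLattice) := by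
  refine Subtype.ext (funext fun q => ?_)
  have h := List.all_eq_true.1 sigma_ok.2 i (List.mem_range.2 i.2)
  have h' := beq_iff_eq.1 (List.all_eq_true.1 h (idx q) (List.mem_range.2 (idx_lt q)))
  rw [AddSubgroup.coe_sub, Pi.sub_apply, coe_v48, coe_vecAt, coe_vecAt, ← rep_S i]
  show dig _ (idx q) = dig kU (idx q) - dig _ (idx q)
  rw [show kU = 67343938137124686954512357785 from rfl, ← h']
  ring

theorem S_mem_pairStab : pS ∈ pairStab cod := by
  intro i j
  have hv : ∀ k : Fin 552, dotInt (v48 : GolayPt → ℤ) ((vecAt k : leechLattice) : GolayPt → ℤ) = 24 := by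
    intro k
    exact (sub_norm_iff v48 (vecAt k : leechLattice) norm_v48 (vecAt k).2.1).1 (vecAt k).2.2
  have hd : dotInt ((vecAt (pS i) : leechLattice) : GolayPt → ℤ) (vecAt (pS j) : leechLattice) =
      dotInt ((vecAt i : leechLattice) : GolayPt → ℤ) (vecAt j : leechLattice) := by
    rw [vecAt_S, vecAt_S]
    have h1 : ∀ a b c d : GolayPt → ℤ, dotInt (a - b) (c - d) =
        dotInt a c - dotInt a d - dotInt c b + dotInt b d := by
      intro a b c d
      simp only [dotInt, Pi.sub_apply, ← Finset.sum_sub_distrib, ← Finset.sum_add_distrib]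
      exact Finset.sum_congr rfl fun _ _ => by ring
    rw [AddSubgroup.coe_sub, AddSubgroup.coe_sub, h1, hv j, hv i, ← sqNorm_eq, norm_v48]
    ring
  rw [cod_eq, cod_eq, hd]

theorem tab_mem_range {W' : List (List Step)} {T : List (ℕ × ℕ)} {fixl : List ℕ} {m : ℕ}
    (hval : (T.all fun g => validK 10 552 g.1 g.2) = true) (hm : m < T.length) (hm' : m < W'.length)
    (hok : gensOK W' fixl = true) (hU : 67343938137124686954512357785 ∈ fixl)
    (hr : runK W' T m = true) :
    ∃ g : G0, Rep 10 552 (T.getD m (0, 0)).1 (psi g) ∧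
      ∀ k k', LeechOrbit.run (W'.getD m []) k = some k' → ∀ x : leechLattice,
        (x : GolayPt → ℤ) = Pk k → (((g : Co0) • x : leechLattice) : GolayPt → ℤ) = Pk k' := by
  have hw' := List.all_eq_true.1 hok _ (List.getElem_mem hm')
  simp only [Bool.and_eq_true, List.all_eq_true, beq_iff_eq] at hw'
  obtain ⟨g, hg⟩ := run_sound (List.all_eq_true.2 hw'.1)
  have g1 : g • v48 = v48 := Subtype.ext ((hg kU kU (hw'.2 _ hU) v48 coe_v48).trans coe_v48.symm)
  refine ⟨⟨g, g1⟩, fun i => ?_, fun k k' hk x hx => ?_⟩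
  · have hv := List.all_eq_true.1 hval _ (List.getElem_mem hm)
    rw [List.getD_eq_getElem _ _ hm]
    have hlt := (valid_at hv i).1
    simp only [runK, allF_iff, beq_iff_eq] at hr
    have h1 := hr i i.2
    rw [List.getD_eq_getElem _ _ hm', List.getD_eq_getElem _ _ hm] at h1
    rw [psi_spec (j := ⟨_, hlt⟩) (Subtype.ext (hg _ _ h1 _ rfl))]
  · rw [List.getD_eq_getElem _ _ hm'] at hk
    exact hg k k' hk x hx

end CfsgLib.Sporadic.OutCert.Co3
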