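import Cfsg.Agent.Lib.Sporadic.OutCert.Co3.Cent
import Cfsg.Agent.Lib.Sporadic.OutCert.Out

/-!
Every automorphism of the third Conway group is inner.
-/

set_option autoImplicit false
set_option maxRecDepth 10000

namespace CfsgLib.Sporadic.OutCert.Co3

open Cfsg

attribute [local irreducible] lk pkF allF compK cod ka kai kn kni kb ks aPows nPows testE

/-- The element of order 23 in the group. -/
noncomputable def hA : H := ⟨pA, A_mem⟩

/-- The element of order 11 in the group. -/
noncomputable def hN : H := ⟨pN, N_mem⟩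

/-- The involution in the group. -/
noncomputable def hB : H := ⟨pB, B_mem⟩

theorem orderOf_hA : orderOf hA = 23 := by
  rw [← orderOf_injective H.subtype Subtype.coe_injective]
  exact orderOf_A

theorem hA_pow : hA ^ 23 = 1 := Subtype.ext A_pow

theorem hN_hA : hN * hA = hA ^ 4 * hN := Subtype.ext N_A

theorem conj_hN (k m : ℕ) : hN ^ k * hA ^ m * (hN ^ k)⁻¹ = hA ^ (m * 4 ^ k) := by
  have h1 : MulAut.conj hN hA = hA ^ 4 := by
    rw [MulAut.conj_apply, hN_hA, mul_inv_cancel_right]
  induction k generalizing m with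
  | zero => simp
  | succ k ih =>
    calc hN ^ (k + 1) * hA ^ m * (hN ^ (k + 1))⁻¹
        = MulAut.conj hN (hN ^ k * hA ^ m * (hN ^ k)⁻¹) := by
          rw [MulAut.conj_apply, pow_succ']; group
      _ = hA ^ (m * 4 ^ (k + 1)) := by
          rw [ih, map_pow, h1, ← pow_mul]
          congr 1
          ring

theorem exponents : ∀ j < 23, 0 < j → ∃ k < 11, j * 4 ^ k % 23 = 1 ∨ j * 4 ^ k % 23 = 5 := by decide +kernel

theorem cent_hA {c : H} (h : Commute c hA) : ∃ i : ℕ, c = hA ^ i := by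
  have hc : Commute (c : P) pA := congrArg Subtype.val h.eq
  obtain ⟨z, hz⟩ := Subgroup.mem_zpowers_iff.1 (cent_A_mem c.2 hc)
  have hm := Int.emod_nonneg z (show ((23 : ℕ) : ℤ) ≠ 0 by norm_num)
  refine ⟨(z % (23 : ℕ)).toNat, Subtype.ext ?_⟩
  rw [Subgroup.coe_pow, ← zpow_natCast, Int.toNat_of_nonneg hm, ← hz]
  show pA ^ z = pA ^ (z % (23 : ℕ))
  rw [← orderOf_A, zpow_mod_orderOf]

theorem conj_l (l i : ℕ) : hA ^ l * (hN * hA ^ i) * (hA ^ l)⁻¹ = hN * hA ^ (6 * l + i) * (hA ^ l)⁻¹ := by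
  have h : hA * hN = hN * hA ^ 6 := by
    have h24 : hA = hA ^ 24 := by rw [pow_succ, hA_pow, one_mul]
    have hp : ∀ k : ℕ, hN * hA ^ k = hA ^ (k * 4) * hN := fun k => by
      have h1 := conj_hN 1 k
      rw [pow_one, pow_one] at h1
      exact mul_inv_eq_iff_eq_mul.1 h1
    rw [hp 6]
    nth_rewrite 1 [h24]
    rfl
  have hl : hA ^ l * hN = hN * hA ^ (6 * l) := by
    induction l with
    | zero => simp
    | succ l ih =>
      rw [pow_succ, mul_assoc, h, ← mul_assoc, ih, mul_assoc, ← pow_add, Nat.mul_succ]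
  rw [← mul_assoc (hA ^ l) hN, hl, mul_assoc hN, ← pow_add]

theorem closure_gen : Subgroup.closure ({hA, hN, hB} : Set H) = ⊤ := by
  apply Subgroup.map_injective H.subtype_injective
  rw [MonoidHom.map_closure, ← MonoidHom.range_eq_map, Subgroup.range_subtype]
  simp only [Set.image_insert_eq, Set.image_singleton]
  rfl

theorem test_eq (m : ℕ) :
    testK 10 552 [aPows.getD (testE.1 * m % 23) 0, nPows.getD testE.2.1 0, kb] testE.2.2 = true ↔
      ((hA ^ m) ^ testE.1 * hN ^ testE.2.1 * hB) ^ testE.2.2 = 1 := by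
  have hj : testE.2.1 < 11 := by unfold testE; norm_num
  rw [test_iff (List.Forall₂.cons (rep_aPow (Nat.mod_lt _ (by norm_num)))
    (List.Forall₂.cons (rep_nPow hj) (List.Forall₂.cons rep_B List.Forall₂.nil))), ← pow_mul, mul_comm m,
    show hA ^ (testE.1 * m) = hA ^ (testE.1 * m % 23) by rw [← orderOf_hA, pow_mod_orderOf]]
  simp only [List.prod_cons, List.prod_nil, mul_one, ← mul_assoc]
  exact ⟨fun h => Subtype.ext h, fun h => congrArg Subtype.val h⟩

theorem mem_inn (α : MulAut H) : α ∈ Inn H := by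
  haveI : Fact (Nat.Prime 23) := ⟨by norm_num⟩
  obtain ⟨g, j, hj0, hj, hg⟩ := exists_conj_pow (p := 23) (G := H) (by rw [H_spec.2.1]; norm_num) orderOf_hA
    ((MulEquiv.orderOf_eq α hA).trans orderOf_hA)
  obtain ⟨k, -, hk⟩ := exponents j hj hj0
  obtain ⟨m, hm15, hm⟩ : ∃ m, (m = 1 ∨ m = 5) ∧ (MulAut.conj (hN ^ k * g) * α) hA = hA ^ m := by
    refine ⟨j * 4 ^ k % 23, hk, ?_⟩
    rw [MulAut.mul_apply, MulAut.conj_apply, ← orderOf_hA, pow_mod_orderOf, ← conj_hN k j, ← hg]
    group
  have hin : ∀ β : H, (MulAut.conj β * α) ∈ Inn H → α ∈ Inn H := by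
    intro β h
    have := mul_mem (inv_mem (show MulAut.conj β ∈ Inn H from ⟨β, rfl⟩)) h
    rwa [inv_mul_cancel_left] at this
  refine hin (hN ^ k * g) ?_
  generalize MulAut.conj (hN ^ k * g) * α = δ at hm
  clear hg hk hj0 hj hin g j k α
  obtain ⟨i, hi⟩ : ∃ i : ℕ, hN⁻¹ * δ hN = hA ^ i := by
    refine cent_hA ?_
    have hmul : δ hN * hA ^ m = hA ^ (m * 4) * δ hN := by
      have := congrArg δ hN_hA
      rw [map_mul, map_mul, map_pow, hm, ← pow_mul] at this
      exact this
    have hm1 : ∀ q : ℕ, q < 23 → (hA ^ m) ^ q = hA → Commute (hN⁻¹ * δ hN) hA := by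
      intro q _ hq
      have hc : Commute (hN⁻¹ * δ hN) (hA ^ m) := by
        have h4 : hN * hA ^ m = hA ^ (m * 4) * hN := by
          have h1 := conj_hN 1 m
          rw [pow_one, pow_one] at h1
          exact mul_inv_eq_iff_eq_mul.1 h1
        show hN⁻¹ * δ hN * hA ^ m = hA ^ m * (hN⁻¹ * δ hN)
        rw [mul_assoc, hmul, ← mul_assoc, ← mul_assoc]
        congr 1
        rw [← mul_inv_eq_iff_eq_mul.2 h4]
        group
      have := hc.pow_right q
      rwa [hq] at this
    rcases hm15 with rfl | rfl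
    · exact hm1 1 (by norm_num) (by rw [pow_one, pow_one])
    · refine hm1 14 (by norm_num) ?_
      rw [← pow_mul, show 5 * 14 = 23 * 3 + 1 by norm_num, pow_succ, pow_mul, hA_pow, one_pow, one_mul]
  have hN' : δ hN = hN * hA ^ i := by rw [← hi, mul_inv_cancel_left]
  let ε := MulAut.conj (hA ^ (9 * i)) * δ
  have eA : ε hA = hA ^ m := by
    rw [MulAut.mul_apply, hm, MulAut.conj_apply, ← pow_add, add_comm, pow_add, mul_inv_cancel_right]
  have eN : ε hN = hN := by
    rw [MulAut.mul_apply, hN', MulAut.conj_apply, conj_l, show 6 * (9 * i) + i = 23 * (2 * i) + 9 * i by ring,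
      pow_add, pow_mul, hA_pow, one_pow, one_mul, mul_inv_cancel_right]
  have eB : ε hB = hB := by
    have h2 : hB * hB = 1 :=
      Subtype.ext ((congrArg (pB * ·) (rep_B.inj rep_B_inv)).trans (mul_inv_cancel pB))
    refine Subtype.ext (involution_cent_N (ε hB).2 (congrArg Subtype.val (show ε hB * ε hB = 1 by rw [← map_mul, h2, map_one])) ?_ ?_)
    · intro e
      have e1 : ε hB = 1 := Subtype.ext e
      rw [EmbeddingLike.map_eq_one_iff] at e1
      have h := rep_B ⟨f0, fixed_n.2.2.2.1⟩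
      rw [show pB = 1 from congrArg Subtype.val e1] at h
      exact rels.2.2.2.2.2.2.2.1 h
    · have hc : Commute hB hN := Subtype.ext N_B.symm.eq
      have := (hc.map ε.toMonoidHom).eq
      simp only [MulEquiv.coe_toMonoidHom, eN] at this
      exact congrArg Subtype.val this
  have hm' : m = 1 := by
    rcases hm15 with rfl | rfl
    · rfl
    exfalso
    have h1 : ((hA ^ 1) ^ testE.1 * hN ^ testE.2.1 * hB) ^ testE.2.2 = 1 := (test_eq 1).1 (by
      rw [mul_one, Nat.mod_eq_of_lt (show testE.1 < 23 by unfold testE; norm_num)]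
      exact test_ok.1)
    rw [pow_one] at h1
    have h5 := congrArg ε h1
    rw [map_pow, map_mul, map_mul, map_pow, map_pow, eA, eN, eB, map_one] at h5
    have := (test_eq 5).2 h5
    rw [test_ok.2] at this
    exact Bool.false_ne_true this
  rw [hm', pow_one] at eA
  have hε : ε = 1 := by
    have h : Set.EqOn ε.toMonoidHom (MonoidHom.id H) ({hA, hN, hB} : Set H) := by
      rintro x (rfl | rfl | rfl)
      · exact eA
      · exact eN
      · exact eB
    exact MulEquiv.ext fun x => DFunLike.congr_fun (MonoidHom.eq_of_eqOn_dense closure_gen h) x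
  rw [show δ = (MulAut.conj (hA ^ (9 * i)))⁻¹ from eq_inv_of_mul_eq_one_right hε]
  exact inv_mem ⟨_, rfl⟩

theorem card_out : Nat.card (Out Cfsg.Spor.Co3) = 1 := by
  obtain ⟨e⟩ := H_spec.1
  rw [card_out_congr e]
  have : Subsingleton (Out H) := ⟨fun x y => by
    obtain ⟨α, rfl⟩ := QuotientGroup.mk_surjective x
    obtain ⟨β, rfl⟩ := QuotientGroup.mk_surjective y
    exact ((QuotientGroup.eq_one_iff α).2 (mem_inn α)).trans ((QuotientGroup.eq_one_iff β).2 (mem_inn β)).symm⟩
  exact Nat.card_unique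

end CfsgLib.Sporadic.OutCert.Co3
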